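import Groth.Agent.Duality.PnPushDepth
import Groth.Agent.Duality.SheafHomTwist
import Groth.Agent.PnCoh.AmpleVanishing
import Groth.Agent.Inter.Twist
import Groth.Agent.PicAux.Powers
import Groth.Agent.LocCohBase.DepthLocal
import Groth.Agent.QCohMod.Coherent

/-!
# Negative ample twists have no cohomology below the depth (Enriques–Severi–Zariski–Serre)
-/

set_option autoImplicit false

universe u

open CategoryTheory CategoryTheory.Limits AlgebraicGeometry
open Groth.PicAux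

namespace Groth.LefVanish

/-- If `depth F_z ≥ p` at the closed points, `H^i(X, F ⊗ L'^m) = 0` for `i < p`, `m ≫ 0`,
where `L'` is inverse to an ample module. -/
theorem exists_subsingleton_negPow (k : Type u) [Field k] {X : Scheme.{u}}
    (f : X ⟶ Spec (CommRingCat.of k)) [IsProper f] {L L' : X.Modules} (hL : CohB1.IsAmple L)
    (hL' : ClSub.IsInverseOf L L') (F : X.Modules) (hF : Coh.IsCoh F) (p : ℕ)
    (hd : ∀ z : X, IsClosed ({z} : Set X) →
      (p : ℕ∞) ≤ LocCoh.depth (X.presheaf.stalk z) (F.presheaf.stalk z)) :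
    ∃ m₀ : ℕ, ∀ t : ℕ, m₀ ≤ t → ∀ i : ℕ, i < p →
      Subsingleton (Coh.HH X (CohB1.tensorMod F (CohB1.tensorPow L' t)) i) := by
  obtain ⟨m, N, j, hN, hj, hjf, ⟨e⟩⟩ := Groth.PnCoh.exists_closedImmersion_of_isAmple f hL
  have := Groth.PnCoh.isLocallyNoetherian_projSpace m k
  have : IsLocallyNoetherian X := LocallyOfFiniteType.isLocallyNoetherian j
  have hL'inv : PicF.IsInvertible L' := isInvertible_of_isInverseOf hL.1 hL'
  have hpow : ∀ a : ℕ, Coh.IsCoh (CohB1.tensorPow L' a) := fun a =>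
    ⟨isQCoh_of_isInvertible (PicAux.isInvertible_tensorPow hL'inv a),
      Ega2Proj.isFT_of_isInvertible (PicAux.isInvertible_tensorPow hL'inv a)⟩
  choose q₀ hq using fun a : Fin N => (Groth.Duality.Pn.exists_subsingleton_pullback_iff_depth j
    (F := CohB1.tensorMod (CohB1.tensorPow L' a) F) (RefRank.isCoh_tensorMod (hpow a) hF) p).2
    fun z hz => by
      obtain ⟨u⟩ := Groth.Inter.exists_stalk_equiv_twist (PicAux.isInvertible_tensorPow hL'inv a) F z
      exact (hd z hz).trans (LocCohBase.idealDepth_congr u).le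
  refine ⟨N * (Finset.univ.sup q₀ + 1), fun t ht i hi => ?_⟩
  let a : Fin N := ⟨t % N, Nat.mod_lt _ hN⟩
  have hk : q₀ a ≤ t / N := by
    have h1 : q₀ a ≤ Finset.univ.sup q₀ := Finset.le_sup (f := q₀) (Finset.mem_univ a)
    have h2 : Finset.univ.sup q₀ + 1 ≤ t / N :=
      (Nat.le_div_iff_mul_le hN).mpr (by rw [mul_comm]; exact ht)
    omega
  obtain ⟨e₁⟩ := tensorPow_add L' (t % N) (N * (t / N))
  obtain ⟨e₂⟩ := tensorPow_mul L N (t / N)
  obtain ⟨e₃⟩ := nonempty_tensorPow_iso e (t / N)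
  obtain ⟨e₄⟩ := pullback_tensorPow j (Twist.twistProjSpace m k 1) (t / N)
  obtain ⟨e₅⟩ := Groth.PnCoh.nonempty_twist_pow (CohB1.polyGrading m k)
    (Groth.Duality.Pn.irrelevant_le_span_one m k) (t / N)
  have e₆ : CohB1.tensorPow L (N * (t / N)) ≅
      (Scheme.Modules.pullback j).obj (Twist.twistProjSpace m k ((t / N : ℕ) : ℤ)) :=
    e₂ ≪≫ e₃ ≪≫ e₄.symm ≪≫ (Scheme.Modules.pullback j).mapIso e₅
  -- the inverse powers
  obtain ⟨u₀⟩ := Groth.Duality.Pn.isInverseOf_twist m k ((t / N : ℕ) : ℤ)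
  obtain ⟨u₁, -⟩ := Groth.PicAux.exists_pullback_tensorMod j (Twist.twistProjSpace m k ((t / N : ℕ) : ℤ))
    (Twist.twistProjSpace m k (-((t / N : ℕ) : ℤ)))
  have hinv : ClSub.IsInverseOf (CohB1.tensorPow L (N * (t / N)))
      ((Scheme.Modules.pullback j).obj (Twist.twistProjSpace m k (-((t / N : ℕ) : ℤ)))) := by
    haveI := Groth.PicAux.isIso_pullUnit j
    exact ⟨PicGrp.tensorModIso e₆ (Iso.refl _) ≪≫ u₁.symm ≪≫ (Scheme.Modules.pullback j).mapIso u₀ ≪≫
      asIso (Groth.PicAux.pullUnit j)⟩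
  obtain ⟨e₇⟩ := isInverseOf_unique hinv (isInverseOf_tensorPow hL' (N * (t / N)))
  rw [Nat.mod_add_div t N] at e₁
  refine Groth.PnCoh.subsingleton_HH_of_iso f ?_ (hq a _ hk i hi)
  exact PicGrp.tensorModIso (exists_braiding _ _).choose e₇ ≪≫ (exists_associator _ _ _).choose ≪≫
    PicGrp.tensorModIso (Iso.refl F) e₁.symm

end Groth.LefVanish
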