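import Groth.Agent.LefVanish.Resolve
import Groth.Agent.LefSections.FullyFaithfulCompl
import Groth.Agent.Pi1Depth.Basic
import Groth.Agent.PicAux.EffCartierSection
import Groth.Agent.PropsBasic.AmpleUnivClosed
import Groth.Agent.Divisors.IdealComap
import Groth.Agent.S13987

/-!
# `Hom(-, O) → lim Hom(-, O/I^(n+1))` on opens containing the support of `I`
-/

set_option autoImplicit false

universe u

open CategoryTheory CategoryTheory.Limits AlgebraicGeometry
open Groth.LefSections.Compl (quotGen)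

namespace Groth.LefVanish

variable {X Y Z W : Scheme.{u}}

theorem appLE_congr_hom {f g : X ⟶ Y} (h : f = g) (U : Y.Opens) (V : X.Opens) (e : V ≤ f ⁻¹ᵁ U) (a : Γ(Y, U)) :
    f.appLE U V e a = g.appLE U V (h ▸ e) a := by
  subst h; rfl

theorem quotGen_app {f : Y ⟶ X} {g : Z ⟶ Y} {f' : Z ⟶ X} (e : g ≫ f = f') (U : X.Opens) (a : Γ(Y, f ⁻¹ᵁ U)) :
    (quotGen e).app U a = g.appLE (f ⁻¹ᵁ U) (f' ⁻¹ᵁ U) (by subst e; rfl) a := by
  subst e
  show ((Scheme.Modules.pushforwardCongr (rfl : g ≫ f = g ≫ f)).hom.app (Coh.structureModule Z)).app U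
    (g.app (f ⁻¹ᵁ U) a) = _
  rw [Scheme.Modules.pushforwardCongr_hom_app_app (M := Coh.structureModule Z) rfl U,
    Scheme.Hom.app_eq_appLE]
  exact DFunLike.congr_fun (congrArg ConcreteCategory.hom
    ((Coh.structureModule Z).presheaf.map_id _)) _

theorem isIso_unitToPush (g : Z ⟶ Y) (h : ∀ V : Y.Opens, Function.Bijective (g.app V)) :
    IsIso (ClSub.unitToPush g) := by
  rw [Scheme.Modules.Hom.isIso_iff_isIso_app]
  intro V
  rw [ConcreteCategory.isIso_iff_bijective]
  exact h V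

theorem isIso_quotGen {f : Y ⟶ X} {g : Z ⟶ Y} {f' : Z ⟶ X} (e : g ≫ f = f') [IsIso g] :
    IsIso (quotGen e) := by
  have := isIso_unitToPush g fun V => ConcreteCategory.bijective_of_isIso (g.app V)
  rw [quotGen]
  infer_instance

/-- Transfer along an isomorphism of the source. -/
theorem homToFormalBijective_of_iso (J : X.IdealSheafData) {A B : X.Modules} (e : A ≅ B)
    (h : Lef.HomToFormalBijective J A) : Lef.HomToFormalBijective J B := by
  refine ⟨fun φ ψ hφψ => (cancel_epi e.hom).1 (h.1 _ _ fun n => by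
    rw [Category.assoc, Category.assoc, hφψ n]), fun y hy => ?_⟩
  obtain ⟨φ, hφ⟩ := h.2 (fun n => e.hom ≫ y n) fun n => by
    show (e.hom ≫ y (n + 1)) ≫ _ = e.hom ≫ y n
    rw [Category.assoc, hy n]
  exact ⟨e.inv ≫ φ, fun n => by rw [Category.assoc, hφ n, e.inv_hom_id_assoc]⟩

theorem exists_iso_of_support_le (U : X.Opens) {K : X.IdealSheafData} {K' : (U : Scheme.{u}).IdealSheafData}
    (hK : (K.support : Set X) ⊆ U) (h : K' = K.comap U.ι) :
    ∃ d : K.subscheme ⟶ K'.subscheme, IsIso d ∧ d ≫ K'.subschemeι ≫ U.ι = K.subschemeι := by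
  subst h
  have hr : Set.range K.subschemeι ⊆ Set.range U.ι := by
    rw [Scheme.IdealSheafData.range_subschemeι, Scheme.Opens.range_ι]
    exact hK
  let l := IsOpenImmersion.lift U.ι K.subschemeι hr
  have hl : l ≫ U.ι = K.subschemeι := IsOpenImmersion.lift_fac _ _ hr
  let b : K.subscheme ⟶ pullback U.ι K.subschemeι := pullback.lift l (𝟙 _) (by rw [hl, Category.id_comp])
  have : IsIso b := ⟨pullback.snd _ _, pullback.lift_snd _ _ _, by
    apply pullback.hom_ext
    · rw [Category.assoc, pullback.lift_fst, Category.id_comp, ← cancel_mono U.ι, Category.assoc, hl,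
        pullback.condition]
    · rw [Category.assoc, pullback.lift_snd, Category.id_comp, Category.comp_id]⟩
  refine ⟨b ≫ (K.comapIso U.ι).inv, inferInstance, ?_⟩
  rw [Category.assoc, Scheme.IdealSheafData.comapIso_inv_subschemeι_assoc, pullback.lift_fst_assoc, hl]

/-- The comparison `j_*(f'_*O) ⟶ f_*O` along `d ≫ f' ≫ j = f`. -/
noncomputable def kappa {f' : Y ⟶ W} {j : W ⟶ X} {f : Z ⟶ X} {d : Z ⟶ Y} (e : d ≫ f' ≫ j = f) :
    (Scheme.Modules.pushforward j).obj ((Scheme.Modules.pushforward f').obj (Coh.structureModule Y)) ⟶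
      (Scheme.Modules.pushforward f).obj (Coh.structureModule Z) :=
  (Scheme.Modules.pushforwardComp f' j).hom.app _ ≫ quotGen e

theorem kappa_app {f' : Y ⟶ W} {j : W ⟶ X} {f : Z ⟶ X} {d : Z ⟶ Y} (e : d ≫ f' ≫ j = f) (U : X.Opens)
    (a : Γ(Y, f' ⁻¹ᵁ j ⁻¹ᵁ U)) :
    (kappa e).app U a = d.appLE (f' ⁻¹ᵁ j ⁻¹ᵁ U) (f ⁻¹ᵁ U) (by subst e; rfl) a :=
  quotGen_app e U a

/-- `kappa` commutes with the quotient maps of compatible factorisations. -/
theorem kappa_quotGen {Y₀ Y₁ Z₀ Z₁ : Scheme.{u}} {j : W ⟶ X} {f₀' : Y₀ ⟶ W} {f₁' : Y₁ ⟶ W} {f₀ : Z₀ ⟶ X}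
    {f₁ : Z₁ ⟶ X} {d₀ : Z₀ ⟶ Y₀} {d₁ : Z₁ ⟶ Y₁} {g' : Y₀ ⟶ Y₁} {g : Z₀ ⟶ Z₁}
    (e₀ : d₀ ≫ f₀' ≫ j = f₀) (e₁ : d₁ ≫ f₁' ≫ j = f₁) (e' : g' ≫ f₁' = f₀') (e : g ≫ f₁ = f₀)
    (hg : d₀ ≫ g' = g ≫ d₁) :
    (Scheme.Modules.pushforward j).map (quotGen e') ≫ kappa e₀ = kappa e₁ ≫ quotGen e := by
  refine Scheme.Modules.hom_ext _ _ fun V => ?_
  ext a
  change (kappa e₀).app V ((quotGen e').app (j ⁻¹ᵁ V) a) = (quotGen e).app V ((kappa e₁).app V a)
  rw [quotGen_app, kappa_app, quotGen_app, kappa_app, ← ConcreteCategory.comp_apply,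
    Scheme.Hom.appLE_comp_appLE, ← ConcreteCategory.comp_apply, Scheme.Hom.appLE_comp_appLE]
  exact appLE_congr_hom hg _ _ _ a

/-- Descent of the bijectivity to an open containing the support, when functions extend from it. -/
theorem homToFormalBijective_restrict (U : X.Opens) (I : X.IdealSheafData) (hI : (I.support : Set X) ⊆ U)
    (hO : ∀ V : X.Opens, Function.Bijective (U.ι.app V)) (G : X.Modules) (h : Lef.HomToFormalBijective I G) :
    Lef.HomToFormalBijective (I.comap U.ι) ((Scheme.Modules.restrictFunctor U.ι).obj G) := by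
  let J := I.comap U.ι
  have hex : ∀ n : ℕ, ∃ d : (I ^ (n + 1)).subscheme ⟶ (J ^ (n + 1)).subscheme,
      IsIso d ∧ d ≫ (J ^ (n + 1)).subschemeι ≫ U.ι = (I ^ (n + 1)).subschemeι := fun n =>
    exists_iso_of_support_le U (by rw [Scheme.IdealSheafData.support_pow_succ]; exact hI)
      (Divisors.comap_pow I U.ι (n + 1)).symm
  choose d hd hdf using hex
  let κ := fun n => kappa (hdf n)
  have : ∀ n, IsIso (κ n) := fun n => by
    have := hd n
    have := isIso_quotGen (hdf n)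
    exact IsIso.comp_isIso
  have := isIso_unitToPush U.ι hO
  have h1 : ∀ n, ClSub.unitToPush U.ι ≫
      (Scheme.Modules.pushforward U.ι).map (ClSub.toSubscheme (J ^ (n + 1))) ≫ κ n =
      ClSub.toSubscheme (I ^ (n + 1)) := fun n => by
    refine Scheme.Modules.hom_ext _ _ fun V => ?_
    ext a
    change (kappa (hdf n)).app V ((J ^ (n + 1)).subschemeι.app (U.ι ⁻¹ᵁ V) (U.ι.app V a)) =
      (I ^ (n + 1)).subschemeι.app V a
    rw [kappa_app, Scheme.Hom.app_eq_appLE, Scheme.Hom.app_eq_appLE, Scheme.Hom.app_eq_appLE,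
      ← ConcreteCategory.comp_apply, Scheme.Hom.appLE_comp_appLE, ← ConcreteCategory.comp_apply,
      Scheme.Hom.appLE_comp_appLE]
    refine appLE_congr_hom ?_ _ _ _ a
    rw [Category.assoc]
    exact hdf n
  have h2 : ∀ n, (Scheme.Modules.pushforward U.ι).map (Lef.quotMap (Lef.pow_succ_le J n)) ≫ κ n =
      κ (n + 1) ≫ Lef.quotMap (Lef.pow_succ_le I n) := fun n => by
    rw [LefSections.Compl.quotMap_eq_quotGen, LefSections.Compl.quotMap_eq_quotGen]
    refine kappa_quotGen _ _ _ _ ?_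
    rw [← cancel_mono (J ^ (n + 1 + 1)).subschemeι, ← cancel_mono U.ι]
    simp only [Category.assoc]
    rw [hdf (n + 1), Scheme.IdealSheafData.inclusion_subschemeι,
      Scheme.IdealSheafData.inclusion_subschemeι_assoc, hdf n]
  let adj := Scheme.Modules.restrictAdjunction U.ι
  let Φ := fun N : (U : Scheme.{u}).Modules => adj.homEquiv G N
  have hnat : ∀ {N N' : (U : Scheme.{u}).Modules} (y : (Scheme.Modules.restrictFunctor U.ι).obj G ⟶ N)
      (g : N ⟶ N'), Φ N' (y ≫ g) = Φ N y ≫ (Scheme.Modules.pushforward U.ι).map g :=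
    fun y g => adj.homEquiv_naturality_right y g
  have hO' : ∀ (φ : (Scheme.Modules.restrictFunctor U.ι).obj G ⟶ Coh.structureModule U) (n : ℕ),
      (Φ _ φ ≫ inv (ClSub.unitToPush U.ι)) ≫ ClSub.toSubscheme (I ^ (n + 1)) =
        Φ _ (φ ≫ ClSub.toSubscheme (J ^ (n + 1))) ≫ κ n := fun φ n => by
    rw [← h1 n, hnat, Category.assoc, Category.assoc, IsIso.inv_hom_id_assoc]
  refine ⟨fun φ ψ hφψ => ?_, fun y hy => ?_⟩
  · refine (Φ _).injective ((cancel_mono (inv (ClSub.unitToPush U.ι))).1 (h.1 _ _ fun n => ?_))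
    rw [hO', hO', hφψ n]
  · obtain ⟨φ, hφ⟩ := h.2 (fun n => Φ _ (y n) ≫ κ n) fun n => by
      show (Φ _ (y (n + 1)) ≫ κ (n + 1)) ≫ _ = Φ _ (y n) ≫ κ n
      rw [Category.assoc, ← h2 n, ← Category.assoc, ← hnat, hy n]
    refine ⟨(Φ _).symm (φ ≫ ClSub.unitToPush U.ι), fun n => (Φ _).injective ((cancel_mono (κ n)).1 ?_)⟩
    rw [← hO', Equiv.apply_symm_apply, Category.assoc φ, IsIso.hom_inv_id, Category.comp_id, hφ n]

/-- For an ample effective Cartier divisor over a field, the Lefschetz condition holds in depth two. -/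
theorem lefCond_of_ample (k : Type u) [Field k] [X.Over (Spec (CommRingCat.of k))]
    [IsProper (X ↘ (Spec (CommRingCat.of k)))] (I : X.IdealSheafData) (L : X.Modules)
    (hL : ClSub.IsInverseOf L (ClSub.idealMod I)) (hamp : CohB1.IsAmple L)
    (hd : ∀ z : X, IsClosed ({z} : Set X) →
      (2 : ℕ∞) ≤ LocCoh.depth (X.presheaf.stalk z) (X.presheaf.stalk z)) :
    Lef.LefCond X I := by
  intro U hU D hD
  let f := X ↘ Spec (CommRingCat.of k)
  have : IsLocallyNoetherian X := LocallyOfFiniteType.isLocallyNoetherian f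
  have : CompactSpace X := hamp.2.1
  have : IsNoetherian X := {}
  have hC := PicAux.isEffCartierIdeal_of_isInvertible (PicAux.isInvertible_of_isInverseOf hamp.1 hL)
  obtain ⟨s, hs, -⟩ := PicAux.exists_section_zeroScheme_eq hC hL
  have haff : IsAffineOpen (CohB1.genLocus L s) := by
    rw [PropsBasic.Ample.genLocus_eq_gloc]
    exact PropsBasic.Ample.isAffineOpen_gloc_of_universallyClosed f hamp _
  have hout : ∀ x : X, x ∉ U → IsClosed ({x} : Set X) := fun x hx =>
    VarietyBC.NegTwist.isClosed_singleton_of_closure_le k haff x fun y hy => by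
      rw [SetLike.mem_coe, PicAux.mem_genLocus_iff_not_mem_support hamp.1, hs]
      exact fun hy' => hx ((specializes_iff_mem_closure.2 hy).mem_open U.2 (hU hy'))
  obtain ⟨G, hG, ⟨e⟩⟩ := Groth.Agent.S13987.exists_ext U D (KTheory.LocFree.isCoh hD)
  exact homToFormalBijective_of_iso _ e (homToFormalBijective_restrict U I hU
    (Pi1Depth.bijective_app_of_two_le_depth U fun x hx => hd x (hout x hx)) G
    (homToFormalBijective_coh hamp I (fun P hP => homToFormalBijective_ample k I L hL hamp hd P hP) G hG))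

end Groth.LefVanish
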