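import Groth.Agent.LefVanish.NegVanish
import Groth.Agent.LefSections.Basic
import Groth.Agent.PicAux.EffCartierLine
import Groth.Agent.Divisors.EffCartier
import Groth.Agent.EulerDeg.HLinear
import Groth.Agent.VarietyBC.NegTwist
import Groth.Agent.ProjFormula.Derived
import Groth.Agent.CohTwo.PushStalkModule

/-!
# `Hom(P, O) → lim Hom(P, O/I^(n+1))` for ample effective Cartier divisors in depth two
-/

set_option autoImplicit false

universe u

open CategoryTheory CategoryTheory.Limits AlgebraicGeometry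
open Groth.PicAux
open Groth.CohTwo.LocFreeDual (dual dualAdj)
open Groth.CohTwo.SheafHomIso (tF)

namespace Groth.LefVanish

variable {X : Scheme.{u}}

/-- Eventual bijectivity of the reductions gives bijectivity onto the compatible families. -/
theorem homToFormalBijective_of_eventually (J : X.IdealSheafData) (D : X.Modules) (m₀ : ℕ)
    (h : ∀ m : ℕ, m₀ ≤ m → Function.Bijective
      fun φ : D ⟶ Coh.structureModule X => φ ≫ ClSub.toSubscheme (J ^ (m + 1))) :
    Lef.HomToFormalBijective J D := by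
  refine ⟨fun φ ψ e => (h m₀ le_rfl).1 (e m₀), fun y hy => ?_⟩
  obtain ⟨φ, hφ⟩ := (h m₀ le_rfl).2 (y m₀)
  change φ ≫ ClSub.toSubscheme (J ^ (m₀ + 1)) = y m₀ at hφ
  have step : ∀ (χ : D ⟶ Coh.structureModule X) (n : ℕ),
      χ ≫ ClSub.toSubscheme (J ^ (n + 1 + 1)) = y (n + 1) → χ ≫ ClSub.toSubscheme (J ^ (n + 1)) = y n :=
    fun χ n e => by rw [← Groth.LefSections.toSub_quotMap (Lef.pow_succ_le J n), ← Category.assoc]; exact (congrArg (· ≫ _) e).trans (hy n)
  have down : ∀ (χ : D ⟶ Coh.structureModule X) (n d : ℕ),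
      χ ≫ ClSub.toSubscheme (J ^ (n + d + 1)) = y (n + d) → χ ≫ ClSub.toSubscheme (J ^ (n + 1)) = y n := by
    intro χ n d
    induction d with
    | zero => exact id
    | succ d ih => exact fun e => ih (step χ _ e)
  refine ⟨φ, fun n => ?_⟩
  rcases Nat.le_total n m₀ with hn | hn
  · obtain ⟨d, rfl⟩ := Nat.exists_eq_add_of_le hn
    exact down φ n d hφ
  · obtain ⟨χ, hχ⟩ := (h n hn).2 (y n)
    change χ ≫ ClSub.toSubscheme (J ^ (n + 1)) = y n at hχ
    obtain ⟨d, rfl⟩ := Nat.exists_eq_add_of_le hn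
    rw [(h m₀ le_rfl).1 (hφ.trans (down χ m₀ d hχ).symm)]
    exact hχ

/-- `Hom(P, O) → Hom(P, Q)` is bijective when `P^∨ ⊗ K` has no `H⁰` and `H¹`. -/
theorem bijective_postcomp (k : Type u) [CommRing k] [X.Over (Spec (CommRingCat.of k))] {P : X.Modules}
    (hP : FlatMod.IsFinLocFree P) {S : ShortComplex X.Modules} (hS : S.ShortExact)
    (h0 : Subsingleton (Coh.HH X ((tF (dual P)).obj S.X₁) 0))
    (h1 : Subsingleton (Coh.HH X ((tF (dual P)).obj S.X₁) 1)) :
    Function.Bijective fun φ : P ⟶ S.X₂ => φ ≫ S.g := by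
  have hD : FlatMod.IsFinLocFree (dual P) :=
    LocFree.isFinLocFree_homSh hP (LocFree.isFinLocFree_unit X)
  have := (Groth.ProjFormula.preservesFinite_tF hD).1
  have := (Groth.ProjFormula.preservesFinite_tF hD).2
  have := Groth.ProjFormula.additive_tF (dual P)
  have hT : (S.map (tF (dual P))).ShortExact := hS.map_of_exact (tF (dual P))
  set g := (tF (dual P)).map S.g
  have hg : Function.Bijective (Groth.EulerDeg.hMap k g 0) := by
    refine ⟨(injective_iff_map_eq_zero _).2 fun x hx => ?_, fun x => ?_⟩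
    · obtain ⟨y, hy⟩ := (Groth.EulerDeg.exact_mid k hT 0 x).1 hx
      rw [← hy]
      exact (congrArg _ (Subsingleton.elim (h := h0) y 0)).trans (map_zero (Groth.EulerDeg.hMap k (S.map (tF (dual P))).f 0))
    · exact (Groth.EulerDeg.exact_right k hT 0 x).1 (Subsingleton.elim (h := h1) _ _)
  have hΓ : Function.Bijective (g.app ⊤) := by
    let e := fun M : X.Modules => Sheaf.H.equiv₀ (Coh.toAb M) (T := (⊤ : X.Opens)) isTerminalTop
    have key : ∀ x : Coh.HH X ((tF (dual P)).obj S.X₂) 0,
        g.app ⊤ (e ((tF (dual P)).obj S.X₂) x) = e ((tF (dual P)).obj S.X₃) (Groth.EulerDeg.hMap k g 0 x) :=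
      fun x => Sheaf.H.equiv₀_naturality (T := (⊤ : TopologicalSpace.Opens X)) isTerminalTop
        (Groth.EulerDeg.abMap g) x
    refine ⟨fun a b hab => ?_, fun b => ?_⟩
    · obtain ⟨x, rfl⟩ := (e _).surjective a
      obtain ⟨y, rfl⟩ := (e _).surjective b
      rw [key, key] at hab
      rw [hg.1 ((e _).injective hab)]
    · obtain ⟨y, rfl⟩ := (e _).surjective b
      obtain ⟨x, rfl⟩ := hg.2 y
      exact ⟨_, key x⟩
  have hO : Function.Bijective fun ψ : Coh.structureModule X ⟶ (tF (dual P)).obj S.X₂ => ψ ≫ g := by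
    refine ⟨fun a b hab => hom_structure_ext (hΓ.1 ?_), fun b => ?_⟩
    · exact congrArg (fun t : Coh.structureModule X ⟶ _ => t.app ⊤ (oneSec X ⊤)) hab
    · obtain ⟨s, hs⟩ := hΓ.2 (b.app ⊤ (oneSec X ⊤))
      refine ⟨homOfSection s, hom_structure_ext ?_⟩
      change g.app ⊤ ((homOfSection s).app ⊤ (oneSec X ⊤)) = _
      rw [homOfSection_one]
      exact hs
  have := Groth.CohTwo.LocFreeExt.hasSheafHom P
  let u : (tF P).obj (Coh.structureModule X) ≅ P := SecTwist.unitorR P
  let a := fun G : X.Modules => (u.homFromEquiv (Z := G)).symm.trans ((dualAdj hP).homEquiv (Coh.structureModule X) G)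
  have hnat : ∀ φ : P ⟶ S.X₂, a S.X₃ (φ ≫ S.g) = a S.X₂ φ ≫ g := fun φ => by
    refine Eq.trans ?_ ((dualAdj hP).homEquiv_naturality_right (u.hom ≫ φ) S.g)
    exact congrArg ((dualAdj hP).homEquiv (Coh.structureModule X) S.X₃) (Category.assoc u.hom φ S.g).symm
  have : (fun φ : P ⟶ S.X₂ => φ ≫ S.g) =
      (a S.X₃).symm ∘ (fun ψ => ψ ≫ g) ∘ (a S.X₂) := funext fun φ => by
    simp only [Function.comp_apply, ← hnat, Equiv.symm_apply_apply]
  rw [this]
  exact (a S.X₃).symm.bijective.comp (hO.comp (a S.X₂).bijective)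

theorem nonempty_idealMod_pow_succ {I : X.IdealSheafData} (hI : BlowUp.IsEffCartierIdeal I) : ∀ m : ℕ,
    Nonempty (CohB1.tensorPow (ClSub.idealMod I) (m + 1) ≅ ClSub.idealMod (I ^ (m + 1))) := by
  intro m
  induction m with
  | zero => rw [zero_add, pow_one]; exact tensorPow_one _
  | succ m ih =>
    rw [pow_succ I (m + 1)]
    exact ⟨PicGrp.tensorModIso ih.some (Iso.refl _) ≪≫
      (idealMod_mul (Groth.Divisors.isEffCartierIdeal_pow hI (m + 1)) hI).some⟩

/-- Over a proper scheme over a field, for an ample effective Cartier divisor in depth two. -/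
theorem homToFormalBijective_ample (k : Type u) [Field k] [X.Over (Spec (CommRingCat.of k))]
    [IsProper (X ↘ (Spec (CommRingCat.of k)))] (I : X.IdealSheafData) (L : X.Modules)
    (hL : ClSub.IsInverseOf L (ClSub.idealMod I)) (hamp : CohB1.IsAmple L)
    (hd : ∀ z : X, IsClosed ({z} : Set X) →
      (2 : ℕ∞) ≤ LocCoh.depth (X.presheaf.stalk z) (X.presheaf.stalk z))
    (P : X.Modules) (hP : FlatMod.IsFinLocFree P) : Lef.HomToFormalBijective I P := by
  let f := X ↘ Spec (CommRingCat.of k)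
  have : IsLocallyNoetherian X := LocallyOfFiniteType.isLocallyNoetherian f
  have hC := isEffCartierIdeal_of_isInvertible (isInvertible_of_isInverseOf hamp.1 hL)
  have hD : FlatMod.IsFinLocFree (dual P) :=
    LocFree.isFinLocFree_homSh hP (LocFree.isFinLocFree_unit X)
  obtain ⟨m₀, hm⟩ := exists_subsingleton_negPow k f hamp hL (dual P) (KTheory.LocFree.isCoh hD) 2
    fun z hz => by
      have := KTheory.LocFree.free_stalk hD z
      have := LocFree.finite_stalk hD z
      exact (hd z hz).trans (Groth.Duality.depth_le_depth_free ((dual P).presheaf.stalk z))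
  refine homToFormalBijective_of_eventually I P m₀ fun m hmm => ?_
  have hv : ∀ i : ℕ, i < 2 →
      Subsingleton (Coh.HH X ((tF (dual P)).obj (ClSub.idealMod (I ^ (m + 1)))) i) := fun i hi =>
    Groth.PnCoh.subsingleton_HH_of_iso f
      (PicGrp.tensorModIso (Iso.refl _) (nonempty_idealMod_pow_succ hC m).some) (hm (m + 1) (by omega) i hi)
  exact bijective_postcomp k hP (shortExact_idealMod (I ^ (m + 1))) (hv 0 (by omega)) (hv 1 (by omega))

end Groth.LefVanish
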