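import Groth.Agent.LefVanish.Ample
import Groth.Agent.FlatmorThree.Resolution
import Groth.Agent.QCohMod.Coherent

/-!
# From finite locally free to coherent modules
-/

set_option autoImplicit false

universe u

open CategoryTheory CategoryTheory.Limits AlgebraicGeometry
open Groth.PicAux

namespace Groth.LefVanish

variable {X : Scheme.{u}}

theorem hasAmpleFamily_of_isAmple {L : X.Modules} (hL : CohB1.IsAmple L) : MoreMor.HasAmpleFamily X :=
  ⟨hL.2.1, fun x => by
    obtain ⟨n, s, hx, hs⟩ := hL.2.2 x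
    exact ⟨L, n + 1, s, hL.1, Nat.succ_pos n, hx, hs⟩⟩

theorem homToFormalBijective_of_epi (J : X.IdealSheafData) {E₀ E₁ D : X.Modules} (p : E₀ ⟶ D) [Epi p]
    (q : E₁ ⟶ kernel p) [Epi q] (h₀ : Lef.HomToFormalBijective J E₀)
    (h₁ : Lef.HomToFormalBijective J E₁) : Lef.HomToFormalBijective J D := by
  refine ⟨fun φ ψ hφψ => (cancel_epi p).1 (h₀.1 _ _ fun n => by
    rw [Category.assoc, Category.assoc, hφψ n]), fun y hy => ?_⟩
  have hy' : Lef.IsFormalHom J _ fun n => p ≫ y n := fun n => by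
    show (p ≫ y (n + 1)) ≫ _ = p ≫ y n
    rw [Category.assoc, hy n]
  obtain ⟨φ, hφ⟩ := h₀.2 _ hy'
  have h0 : kernel.ι p ≫ φ = 0 := (cancel_epi q).1 (h₁.1 _ _ fun n => by
    rw [Category.assoc, Category.assoc, hφ n, kernel.condition_assoc, zero_comp, comp_zero,
      comp_zero, zero_comp])
  let S := ShortComplex.mk (kernel.ι p) p (kernel.condition p)
  have hex : S.Exact := S.exact_of_f_is_kernel (kernelIsKernel p)
  have : Epi S.g := inferInstanceAs (Epi p)
  refine ⟨hex.desc φ h0, fun n => (cancel_epi p).1 ?_⟩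
  rw [← Category.assoc]
  exact (congrArg (fun t : E₀ ⟶ _ => t ≫ ClSub.toSubscheme (J ^ (n + 1))) (hex.g_desc φ h0)).trans (hφ n)

/-- With an ample module, the finite locally free case gives the coherent case. -/
theorem homToFormalBijective_coh [IsLocallyNoetherian X] {L : X.Modules} (hL : CohB1.IsAmple L)
    (J : X.IdealSheafData) (h : ∀ P : X.Modules, FlatMod.IsFinLocFree P → Lef.HomToFormalBijective J P)
    (D : X.Modules) (hD : Coh.IsCoh D) : Lef.HomToFormalBijective J D := by
  have hR := Groth.FlatmorThree.ResProp.hasResolutionProperty (hasAmpleFamily_of_isAmple hL)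
  obtain ⟨E₀, p, hE₀, hp⟩ := hR D hD.1 hD.2
  have := hD.1
  have := Groth.QCohMod.isCoh_kernel p (KTheory.LocFree.isCoh hE₀)
  obtain ⟨E₁, q, hE₁, hq⟩ := hR (kernel p) this.1 this.2
  exact homToFormalBijective_of_epi J p q (h E₀ hE₀) (h E₁ hE₁)

end Groth.LefVanish
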